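import Mathlib
import Groth.Agent.NNPrime.Basic

/-!
# Noether normalisation adapted to a chain of primes
-/

set_option autoImplicit false

universe u

open MvPolynomial

namespace Groth.Agent.NNChain

variable {k : Type u} [Field k]

/-- The ideal of the first `c` coordinates. -/
noncomputable def J (k : Type u) [Field k] (d c : ℕ) : Ideal (MvPolynomial (Fin d) k) :=
  Ideal.span (MvPolynomial.X '' {l : Fin d | (l : ℕ) < c})

/-- Killing the first `a` coordinates. -/
noncomputable def π (k : Type u) [Field k] (d a : ℕ) :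
    MvPolynomial (Fin d) k →ₐ[k] MvPolynomial (Fin (d - a)) k :=
  aeval fun l => if h : a ≤ (l : ℕ) then X ⟨(l : ℕ) - a, by omega⟩ else 0

/-- The last coordinates. -/
noncomputable def sec (k : Type u) [Field k] (d a : ℕ) :
    MvPolynomial (Fin (d - a)) k →ₐ[k] MvPolynomial (Fin d) k :=
  rename fun l => ⟨(l : ℕ) + a, by omega⟩

theorem π_sec (d a : ℕ) : (π k d a).comp (sec k d a) = AlgHom.id k _ := by
  refine MvPolynomial.algHom_ext fun l => ?_
  rw [AlgHom.comp_apply, sec, rename_X, π, aeval_X, dif_pos (by simp)]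
  simp

theorem π_surjective (d a : ℕ) : Function.Surjective (π k d a) :=
  fun b => ⟨sec k d a b, AlgHom.congr_fun (π_sec d a) b⟩

theorem X_mem {d c : ℕ} {l : Fin d} (h : (l : ℕ) < c) : (X l : MvPolynomial (Fin d) k) ∈ J k d c :=
  Ideal.subset_span ⟨l, h, rfl⟩

theorem π_X_lt {d a : ℕ} {l : Fin d} (h : (l : ℕ) < a) : π k d a (X l) = 0 := by
  rw [π, aeval_X, dif_neg (by omega)]

theorem sub_sec_mem (d a : ℕ) (f : MvPolynomial (Fin d) k) : f - sec k d a (π k d a f) ∈ J k d a := by
  rw [← Ideal.Quotient.eq]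
  have : Ideal.Quotient.mkₐ k (J k d a) =
      (Ideal.Quotient.mkₐ k (J k d a)).comp ((sec k d a).comp (π k d a)) :=
    MvPolynomial.algHom_ext fun l => by
      by_cases h : (l : ℕ) < a
      · rw [AlgHom.comp_apply, AlgHom.comp_apply, π_X_lt h, map_zero, map_zero]
        exact Ideal.Quotient.eq_zero_iff_mem.2 (X_mem h)
      · have : a ≤ (l : ℕ) := by omega
        rw [AlgHom.comp_apply, AlgHom.comp_apply, π, aeval_X, dif_pos this, sec, rename_X]
        congr 2
        exact Fin.ext (show (l : ℕ) = (l : ℕ) - a + a by omega)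
  exact AlgHom.congr_fun this f

theorem ker_π (d a : ℕ) : RingHom.ker (π k d a) = J k d a := by
  refine le_antisymm (fun f hf => ?_) (Ideal.span_le.2 ?_)
  · have := sub_sec_mem (k := k) d a f
    rwa [RingHom.mem_ker.1 hf, map_zero, sub_zero] at this
  · rintro _ ⟨l, hl, rfl⟩
    exact π_X_lt hl

theorem J_zero (d : ℕ) : J k d 0 = ⊥ := by simp [J]

theorem J_isPrime (d c : ℕ) : (J k d c).IsPrime := ker_π (k := k) d c ▸ RingHom.ker_isPrime _

theorem J_mono {d a c : ℕ} (h : a ≤ c) : J k d a ≤ J k d c :=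
  Ideal.span_mono (Set.image_mono fun _ hl => lt_of_lt_of_le hl h)

theorem X_notMem {d c : ℕ} {l : Fin d} (h : c ≤ (l : ℕ)) : (X l : MvPolynomial (Fin d) k) ∉ J k d c := by
  rw [← ker_π, RingHom.mem_ker, π, aeval_X, dif_pos h]
  exact X_ne_zero _

theorem le_of_J_le {d a c : ℕ} (ha : a ≤ d) (h : J k d a ≤ J k d c) : a ≤ c := by
  by_contra hlt
  exact X_notMem (k := k) (l := (⟨c, by omega⟩ : Fin d)) le_rfl (h (X_mem (show c < a by omega)))

theorem comap_π {d a c : ℕ} (h : a ≤ c) :
    (J k (d - a) (c - a)).comap (π k d a) = J k d c := by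
  have hmap : Ideal.map (π k d a) (J k d c) = J k (d - a) (c - a) := by
    refine le_antisymm (Ideal.map_le_iff_le_comap.2 (Ideal.span_le.2 ?_)) (Ideal.span_le.2 ?_)
    · rintro _ ⟨l, hl, rfl⟩
      rw [SetLike.mem_coe, Ideal.mem_comap]
      by_cases hla : (l : ℕ) < a
      · rw [π_X_lt hla]; exact zero_mem _
      · rw [π, aeval_X, dif_pos (by omega)]
        exact X_mem (show (l : ℕ) - a < c - a by have : (l : ℕ) < c := hl; omega)
    · rintro _ ⟨l, hl, rfl⟩
      have := Ideal.mem_map_of_mem (π k d a)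
        (X_mem (k := k) (l := (⟨(l : ℕ) + a, by omega⟩ : Fin d)) (c := c)
          (show (l : ℕ) + a < c by have : (l : ℕ) < c - a := hl; omega))
      rw [π, aeval_X, dif_pos (show a ≤ (l : ℕ) + a by omega)] at this
      have e : (X l : MvPolynomial (Fin (d - a)) k) = X ⟨(l : ℕ) + a - a, by omega⟩ :=
        congrArg X (Fin.ext (by simp))
      rw [SetLike.mem_coe, e]
      exact this
  rw [← hmap, Ideal.comap_map_of_surjective (π k d a) (π_surjective d a), ← RingHom.ker_eq_comap_bot,
    show RingHom.ker (π k d a) = J k d a from ker_π d a, sup_eq_left.2 (J_mono h)]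

/-- An integral map preserves the dimension of the quotient at a contracted ideal. -/
theorem dim_comap {B C : Type u} [CommRing B] [CommRing C] (f : B →+* C) (hf : f.IsIntegral)
    (P : Ideal C) : ringKrullDim (B ⧸ P.comap f) = ringKrullDim (C ⧸ P) := by
  let q := Ideal.quotientMap P f le_rfl
  letI := q.toAlgebra
  have hq : q.IsIntegral := RingHom.IsIntegral.tower_top (Ideal.Quotient.mk (P.comap f)) q (by
    rw [show q.comp (Ideal.Quotient.mk (P.comap f)) = (Ideal.Quotient.mk P).comp f from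
      Ideal.quotientMap_comp_mk le_rfl]
    exact RingHom.IsIntegral.trans f _ hf (RingHom.isIntegral_of_surjective _ Ideal.Quotient.mk_surjective))
  haveI : Algebra.IsIntegral (B ⧸ P.comap f) (C ⧸ P) := ⟨hq⟩
  exact SegreDim.ringKrullDim_eq_of_injective_integral (Ideal.quotientMap_injective (I := P) (f := f))

theorem dim_J (d c : ℕ) : ringKrullDim (MvPolynomial (Fin d) k ⧸ J k d c) = ((d - c : ℕ) : WithBot ℕ∞) := by
  have h := dim_comap (π k d c).toRingHom (RingHom.isIntegral_of_surjective _ (π_surjective d c)) ⊥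
  rw [ringKrullDim_eq_of_ringEquiv (RingEquiv.quotientBot (R := MvPolynomial (Fin (d - c)) k))] at h
  rw [← ker_π, show RingHom.ker (π k d c) = Ideal.comap (π k d c).toRingHom ⊥ from
    RingHom.ker_eq_comap_bot _, h]
  rw [MvPolynomial.ringKrullDim_of_isNoetherianRing, ringKrullDim_eq_zero_of_field, zero_add,
    Nat.card_fin]

theorem exists_coordinate {d a : ℕ} (P : Ideal (MvPolynomial (Fin d) k)) [P.IsPrime] (ha : a ≤ d)
    (hdim : ringKrullDim (MvPolynomial (Fin d) k ⧸ P) = ((d - a : ℕ) : WithBot ℕ∞)) :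
    ∃ φ : MvPolynomial (Fin d) k →ₐ[k] MvPolynomial (Fin d) k,
      φ.toRingHom.IsIntegral ∧ P.comap φ = J k d a := by
  obtain ⟨s, -, g, hg, hgi⟩ :=
    exists_integral_inj_algHom_of_quotient P (Ideal.IsPrime.ne_top inferInstance)
  obtain rfl : s = d - a := by
    letI := g.toRingHom.toAlgebra
    haveI : Algebra.IsIntegral (MvPolynomial (Fin s) k) (MvPolynomial (Fin d) k ⧸ P) := ⟨hgi⟩
    have h := SegreDim.ringKrullDim_eq_of_injective_integral (A := MvPolynomial (Fin s) k)
      (B := MvPolynomial (Fin d) k ⧸ P) hg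
    rw [MvPolynomial.ringKrullDim_of_isNoetherianRing, ringKrullDim_eq_zero_of_field, zero_add,
      Nat.card_fin, hdim] at h
    exact_mod_cast h
  obtain ⟨φ, hφf, hφ⟩ :=
    NNPrime.exists_finite_coordinate P (NNPrime.algebraicIndependent_card_eq P g hg hgi)
  let e : MvPolynomial (Fin d) k →ₐ[k] MvPolynomial (Fin d) k := rename Fin.rev
  have he : ∀ f, e (e f) = f := fun f => by
    simp only [e, rename_rename, Fin.rev_involutive.comp_self, rename_id, AlgHom.id_apply]
  refine ⟨φ.comp e, RingHom.IsIntegral.trans e.toRingHom φ.toRingHom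
    (RingHom.isIntegral_of_surjective _ fun f => ⟨e f, he f⟩)
    hφf.to_isIntegral, ?_⟩
  show (P.comap φ).comap e = _
  rw [hφ]
  refine le_antisymm (fun f hf => ?_) (Ideal.span_le.2 ?_)
  · have := Ideal.mem_map_of_mem e (Ideal.mem_comap.1 hf)
    rw [he, Ideal.map_span] at this
    refine Ideal.span_mono ?_ this
    rintro _ ⟨_, ⟨⟨i, hi⟩, rfl⟩, rfl⟩
    refine ⟨Fin.rev i, ?_, (rename_X _ _).symm⟩
    show (Fin.rev i : ℕ) < a
    rw [Fin.val_rev]; omega
  · rintro _ ⟨l, hl, rfl⟩
    rw [SetLike.mem_coe, Ideal.mem_comap]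
    show rename Fin.rev (X l) ∈ _
    rw [rename_X]
    refine Ideal.subset_span ⟨⟨Fin.rev l, ?_⟩, rfl⟩
    have : (l : ℕ) < a := hl
    rw [Fin.val_rev]; omega

/-- A coordinate system making every member of a chain of primes a coordinate subspace. -/
theorem exists_coordinates_chain : ∀ (r d : ℕ) (P : Fin r → Ideal (MvPolynomial (Fin d) k)) (h : Fin r → ℕ),
    (∀ i, (P i).IsPrime) → Monotone P → (∀ i, h i ≤ d) →
    (∀ i, ringKrullDim (MvPolynomial (Fin d) k ⧸ P i) = ((d - h i : ℕ) : WithBot ℕ∞)) →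
    ∃ φ : MvPolynomial (Fin d) k →ₐ[k] MvPolynomial (Fin d) k,
      φ.toRingHom.IsIntegral ∧ ∀ i, (P i).comap φ = J k d (h i) := by
  intro r
  induction r with
  | zero =>
    intro d P h _ _ _ _
    exact ⟨AlgHom.id k _, RingHom.isIntegral_of_surjective _ fun f => ⟨f, rfl⟩, fun i => i.elim0⟩
  | succ r ih =>
    intro d P h hP hmono hle hdim
    haveI := hP 0
    obtain ⟨φ₁, hφ₁, hP0⟩ := exists_coordinate (P 0) (hle 0) (hdim 0)
    set a := h 0 with ha_def
    have hah : ∀ i, a ≤ h i := fun i => by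
      have h' := ringKrullDim_le_of_surjective (Ideal.Quotient.factor (hmono (Fin.zero_le i)))
        (Ideal.Quotient.factor_surjective (hmono (Fin.zero_le i)))
      rw [hdim i, hdim 0] at h'
      have : d - h i ≤ d - h 0 := by exact_mod_cast h'
      have := hle i; have := hle 0; omega
    let Q : Fin r → Ideal (MvPolynomial (Fin (d - a)) k) :=
      fun i => Ideal.map (π k d a) ((P i.succ).comap φ₁)
    have hker : ∀ i, RingHom.ker (π k d a) ≤ (P i).comap φ₁ := fun i => by
      rw [show RingHom.ker (π k d a) = J k d a from ker_π d a, ← hP0]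
      exact Ideal.comap_mono (hmono (Fin.zero_le i))
    have hQc : ∀ i, (Q i).comap (π k d a) = (P i.succ).comap φ₁ := fun i => by
      rw [Ideal.comap_map_of_surjective (π k d a) (π_surjective d a), ← RingHom.ker_eq_comap_bot]
      exact sup_eq_left.2 (hker i.succ)
    have hQp : ∀ i, (Q i).IsPrime := fun i => by
      haveI := hP i.succ
      haveI : ((P i.succ).comap φ₁).IsPrime := Ideal.IsPrime.comap _
      exact Ideal.map_isPrime_of_surjective (π_surjective d a) (hker i.succ)
    obtain ⟨φ₂, hφ₂, hQ⟩ := ih (d - a) Q (fun i => h i.succ - a) hQp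
      (fun i j hij => Ideal.map_mono (Ideal.comap_mono (hmono (Fin.succ_le_succ_iff.2 hij))))
      (fun i => Nat.sub_le_sub_right (hle i.succ) a)
      (fun i => by
        have h₁ := dim_comap (π k d a).toRingHom
          (RingHom.isIntegral_of_surjective _ (π_surjective d a)) (Q i)
        have h₂ := dim_comap φ₁.toRingHom hφ₁ (P i.succ)
        rw [← h₁, show (Q i).comap (π k d a).toRingHom = (P i.succ).comap φ₁.toRingHom from hQc i, h₂,
          hdim i.succ]
        have := hle i.succ; have := hah i.succ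
        exact congrArg Nat.cast (show d - h i.succ = d - a - (h i.succ - a) by omega))
    let Ψ : MvPolynomial (Fin d) k →ₐ[k] MvPolynomial (Fin d) k :=
      aeval fun l => if h : a ≤ (l : ℕ) then sec k d a (φ₂ (X ⟨(l : ℕ) - a, by omega⟩)) else X l
    have hπΨ : (π k d a).comp Ψ = φ₂.comp (π k d a) := MvPolynomial.algHom_ext fun l => by
      simp only [AlgHom.comp_apply, Ψ, aeval_X]
      by_cases hl : a ≤ (l : ℕ)
      · rw [dif_pos hl, ← AlgHom.comp_apply, π_sec, AlgHom.id_apply, π, aeval_X, dif_pos hl]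
      · rw [dif_neg hl, π_X_lt (by omega), map_zero]
    have hΨsec : Ψ.comp (sec k d a) = (sec k d a).comp φ₂ := MvPolynomial.algHom_ext fun l => by
      simp [Ψ, sec, aeval_X]
    have hΨ : Ψ.toRingHom.IsIntegral := by
      intro f
      have hX : ∀ l : Fin d, Ψ.toRingHom.IsIntegralElem (X l) := fun l => by
        by_cases hl : a ≤ (l : ℕ)
        · obtain ⟨p, hp, hp0⟩ := hφ₂ (X ⟨(l : ℕ) - a, by omega⟩)
          refine ⟨p.map (sec k d a).toRingHom, hp.map _, ?_⟩
          rw [Polynomial.eval₂_map, show Ψ.toRingHom.comp (sec k d a).toRingHom =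
            (sec k d a).toRingHom.comp φ₂.toRingHom from congrArg AlgHom.toRingHom hΨsec]
          have := congrArg (sec k d a).toRingHom hp0
          rw [Polynomial.hom_eval₂, map_zero] at this
          have e : (sec k d a).toRingHom (X ⟨(l : ℕ) - a, by omega⟩) = X l := by
            show rename _ (X _) = _
            rw [rename_X]
            exact congrArg X (Fin.ext (show (l : ℕ) - a + a = (l : ℕ) by omega))
          rwa [e] at this
        · have := Ψ.toRingHom.isIntegralElem_map (x := (X l))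
          rwa [show Ψ.toRingHom (X l) = X l by simp [Ψ, hl]] at this
      induction f using MvPolynomial.induction_on with
      | C c =>
        have := Ψ.toRingHom.isIntegralElem_map (x := C c)
        rwa [show Ψ.toRingHom (C c) = C c from algHom_C Ψ c] at this
      | add p q hp hq => exact RingHom.IsIntegralElem.add _ hp hq
      | mul_X p i hp => exact RingHom.IsIntegralElem.mul _ hp (hX i)
    refine ⟨φ₁.comp Ψ, RingHom.IsIntegral.trans Ψ.toRingHom φ₁.toRingHom hΨ hφ₁, fun i => ?_⟩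
    have key : ∀ (I : Ideal (MvPolynomial (Fin (d - a)) k)) (P' : Ideal (MvPolynomial (Fin d) k)) (c : ℕ),
        I.comap (π k d a) = P'.comap φ₁ → a ≤ c → I.comap φ₂ = J k (d - a) (c - a) →
        P'.comap (φ₁.comp Ψ) = J k d c := fun I P' c h₁ hc h₂ => by
      rw [← comap_π hc, ← h₂]
      show (P'.comap φ₁).comap Ψ = _
      rw [← h₁]
      show I.comap ((π k d a).comp Ψ) = I.comap (φ₂.comp (π k d a))
      rw [hπΨ]
    induction i using Fin.cases with
    | zero =>
      refine key ⊥ _ a ?_ le_rfl ?_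
      · rw [← RingHom.ker_eq_comap_bot, hP0]; exact ker_π d a
      · have hinj : Function.Injective φ₂ := by
          rw [injective_iff_map_eq_zero]
          by_contra hcon
          push_neg at hcon
          obtain ⟨x, hx, hx0⟩ := hcon
          have h₁ := dim_comap φ₂.toRingHom hφ₂ ⊥
          rw [ringKrullDim_eq_of_ringEquiv (RingEquiv.quotientBot (R := MvPolynomial (Fin (d - a)) k))] at h₁
          have h₂ := ringKrullDim_succ_le_of_surjective
            (Ideal.Quotient.mk ((⊥ : Ideal (MvPolynomial (Fin (d - a)) k)).comap φ₂.toRingHom))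
            Ideal.Quotient.mk_surjective (mem_nonZeroDivisors_of_ne_zero hx0)
            (Ideal.Quotient.eq_zero_iff_mem.2 hx)
          rw [h₁, MvPolynomial.ringKrullDim_of_isNoetherianRing, ringKrullDim_eq_zero_of_field,
            zero_add, Nat.card_fin] at h₂
          have : d - a + 1 ≤ d - a := by exact_mod_cast h₂
          omega
        rw [Nat.sub_self, J_zero]
        exact (Ideal.comap_bot_of_injective _ hinj)
    | succ i => exact key (Q i) _ _ (hQc i) (hah _) (hQ i)

/-- Going up and down between the coordinate subspaces. -/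
theorem exists_step {d : ℕ} {A : Type u} [CommRing A] [Algebra k A]
    (φ : MvPolynomial (Fin d) k →ₐ[k] A) (hφ : φ.toRingHom.IsIntegral) {j : ℕ} (hj : j < d)
    (Q : Ideal A) [Q.IsPrime] (hQ : Q.comap φ = J k d j)
    (T : Ideal A) [T.IsPrime] (hQT : Q ≤ T) (hT : J k d (j + 1) ≤ T.comap φ) :
    ∃ Q' : Ideal A, Q'.IsPrime ∧ Q ≤ Q' ∧ Q' ≤ T ∧ Q'.comap φ = J k d (j + 1) := by
  let ψ : MvPolynomial (Fin (d - j)) k →+* A ⧸ Q :=
    (Ideal.Quotient.mk Q).comp (φ.comp (sec k d j)).toRingHom
  have hψπ : ψ.comp (π k d j).toRingHom = (Ideal.Quotient.mk Q).comp φ.toRingHom :=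
    RingHom.ext fun f => Ideal.Quotient.eq.2 (by
      have : φ (f - sec k d j (π k d j f)) ∈ Q := by
        have := sub_sec_mem (k := k) d j f
        rwa [← hQ] at this
      rw [map_sub] at this
      have := neg_mem this
      rwa [neg_sub] at this)
  letI := ψ.toAlgebra
  haveI : Algebra.IsIntegral (MvPolynomial (Fin (d - j)) k) (A ⧸ Q) :=
    ⟨RingHom.IsIntegral.tower_top (π k d j).toRingHom ψ (hψπ ▸
      RingHom.IsIntegral.trans φ.toRingHom _ hφ (RingHom.isIntegral_of_surjective _ Ideal.Quotient.mk_surjective))⟩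
  have hinj : Function.Injective ψ := (injective_iff_map_eq_zero _).2 fun b hb => by
    have hb' : sec k d j b ∈ J k d j := hQ ▸ (Ideal.Quotient.eq_zero_iff_mem.1 hb : φ (sec k d j b) ∈ Q)
    rw [← ker_π, RingHom.mem_ker, ← AlgHom.comp_apply, π_sec] at hb'
    exact hb'
  haveI : FaithfulSMul (MvPolynomial (Fin (d - j)) k) (A ⧸ Q) :=
    (faithfulSMul_iff_algebraMap_injective _ _).2 hinj
  let T' : Ideal (A ⧸ Q) := T.map (Ideal.Quotient.mk Q)
  haveI : T'.IsPrime := Ideal.map_isPrime_of_surjective Ideal.Quotient.mk_surjective (by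
    rwa [Ideal.mk_ker])
  have hT' : T'.comap (Ideal.Quotient.mk Q) = T := Ideal.comap_map_mk hQT
  haveI := J_isPrime (k := k) (d - j) (j + 1 - j)
  haveI : T'.LiesOver (T'.comap ψ) := ⟨rfl⟩
  haveI : (T'.comap ψ).IsPrime := Ideal.IsPrime.comap _
  obtain ⟨P, hPT, hPp, hPo⟩ := Ideal.exists_ideal_le_liesOver_of_le (R := MvPolynomial (Fin (d - j)) k)
    (p := J k (d - j) (j + 1 - j)) (q := T'.comap ψ) T' (Ideal.span_le.2 (by
      rintro _ ⟨l, hl, rfl⟩
      show ψ (X l) ∈ T'
      refine Ideal.mem_map_of_mem _ (?_ : φ (sec k d j (X l)) ∈ T)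
      rw [sec, rename_X]
      exact hT (X_mem (show (l : ℕ) + j < j + 1 by have : (l : ℕ) < j + 1 - j := hl; omega))))
  refine ⟨P.comap (Ideal.Quotient.mk Q), Ideal.IsPrime.comap _, fun x hx => ?_, ?_, ?_⟩
  · show Ideal.Quotient.mk Q x ∈ P
    rw [Ideal.Quotient.eq_zero_iff_mem.2 hx]; exact P.zero_mem
  · exact (Ideal.comap_mono hPT).trans hT'.le
  · have h₁ : J k (d - j) (j + 1 - j) = P.comap ψ := hPo.over
    rw [← comap_π (Nat.le_succ j), h₁]
    show P.comap ((Ideal.Quotient.mk Q).comp φ.toRingHom) = (P.comap ψ).comap (π k d j).toRingHom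
    rw [Ideal.comap_comap, hψπ]

theorem exists_chain {d r : ℕ} {A : Type u} [CommRing A] [IsDomain A] [Algebra k A]
    (φ : MvPolynomial (Fin d) k →ₐ[k] A) (hφ : φ.toRingHom.IsIntegral) (hinj : Function.Injective φ)
    (q : Fin r → PrimeSpectrum A) (hq : StrictMono q) (h : Fin r → ℕ) (hh : ∀ i, h i ≤ d)
    (hc : ∀ i, (q i).asIdeal.comap φ = J k d (h i)) :
    ∃ Q : ℕ → PrimeSpectrum A,
      (∀ j, j ≤ d → (Q j).asIdeal.comap φ = J k d j) ∧
      (∀ j, j < d → Q j < Q (j + 1)) ∧ ∀ i, Q (h i) = q i := by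
  classical
  letI := φ.toRingHom.toAlgebra
  haveI : Algebra.IsIntegral (MvPolynomial (Fin d) k) A := ⟨hφ⟩
  have hmono : ∀ {i i'}, h i ≤ h i' → q i ≤ q i' := fun {i i'} hle => hq.monotone (by
    by_contra hlt
    push_neg at hlt
    have hlt' : (q i').asIdeal < (q i).asIdeal := hq hlt
    have := Ideal.IsIntegral.comap_lt_comap (R := MvPolynomial (Fin d) k) hlt'
    rw [show Ideal.comap (algebraMap (MvPolynomial (Fin d) k) A) (q i).asIdeal = _ from hc i,
      show Ideal.comap (algebraMap (MvPolynomial (Fin d) k) A) (q i').asIdeal = _ from hc i'] at this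
    exact absurd (J_mono hle) (not_le_of_gt this))
  let G : ℕ → PrimeSpectrum A → Prop := fun j p => p.asIdeal.comap φ = J k d j ∧
    ∀ i, (j ≤ h i → p ≤ q i) ∧ (j = h i → p = q i)
  have h0 : G 0 ⟨⊥, Ideal.isPrime_bot⟩ := by
    refine ⟨(Ideal.comap_bot_of_injective φ hinj).trans (J_zero d).symm,
      fun i => ⟨fun _ => show (⊥ : Ideal A) ≤ _ from bot_le, fun e => ?_⟩⟩
    refine PrimeSpectrum.ext (Eq.symm (Ideal.eq_bot_of_comap_eq_bot (R := MvPolynomial (Fin d) k) ?_))
    rw [show Ideal.comap (algebraMap (MvPolynomial (Fin d) k) A) (q i).asIdeal = _ from hc i, ← e, J_zero]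
  have hs : ∀ j, j < d → ∀ p, G j p → ∃ p', p ≤ p' ∧ G (j + 1) p' := by
    rintro j hj p ⟨hp, hpq⟩
    by_cases hex : ∃ i, j + 1 ≤ h i
    · let S : Finset (Fin r) := Finset.univ.filter fun i => j + 1 ≤ h i
      obtain ⟨i, hiS, himin⟩ := S.exists_min_image h (by
        obtain ⟨i, hi⟩ := hex; exact ⟨i, Finset.mem_filter.2 ⟨Finset.mem_univ _, hi⟩⟩)
      have hi : j + 1 ≤ h i := (Finset.mem_filter.1 hiS).2
      have hle : ∀ i', j + 1 ≤ h i' → q i ≤ q i' := fun i' hi' =>
        hmono (himin i' (Finset.mem_filter.2 ⟨Finset.mem_univ _, hi'⟩))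
      by_cases heq : h i = j + 1
      · refine ⟨q i, (hpq i).1 (by omega), heq ▸ hc i, fun i' => ⟨hle i', fun e => ?_⟩⟩
        exact le_antisymm (hle i' e.le) (hmono (by omega))
      · obtain ⟨Q', hQ'p, h₁, h₂, h₃⟩ := exists_step φ hφ hj p.asIdeal hp (q i).asIdeal
          ((hpq i).1 (by omega)) (hc i ▸ J_mono hi)
        refine ⟨⟨Q', hQ'p⟩, h₁, h₃, fun i' => ⟨fun hi' => le_trans (show (⟨Q', hQ'p⟩ : PrimeSpectrum A) ≤ q i from h₂) (hle i' hi'),
          fun e => ?_⟩⟩
        exact absurd (himin i' (Finset.mem_filter.2 ⟨Finset.mem_univ _, e.le⟩)) (by omega)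
    · push_neg at hex
      haveI := J_isPrime (k := k) d (j + 1)
      obtain ⟨Q', h₁, hQ'p, h₃⟩ := Ideal.exists_ideal_over_prime_of_isIntegral (R := MvPolynomial (Fin d) k)
        (J k d (j + 1)) p.asIdeal (hp.trans_le (J_mono (Nat.le_succ j)))
      exact ⟨⟨Q', hQ'p⟩, h₁, h₃, fun i' => ⟨fun hi' => absurd (hex i') (by omega),
        fun e => absurd (hex i') (by omega)⟩⟩
  let Q : ℕ → PrimeSpectrum A := fun n => Nat.rec ⟨⊥, Ideal.isPrime_bot⟩
    (fun j p => if H : ∃ p', p ≤ p' ∧ G (j + 1) p' then H.choose else p) n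
  have hQsucc : ∀ j, (∃ p', Q j ≤ p' ∧ G (j + 1) p') → Q j ≤ Q (j + 1) ∧ G (j + 1) (Q (j + 1)) := by
    intro j H
    rw [show Q (j + 1) = H.choose from dif_pos H]
    exact H.choose_spec
  have hG : ∀ j, j ≤ d → G j (Q j) := by
    intro j
    induction j with
    | zero => exact fun _ => h0
    | succ j ih => exact fun hj => (hQsucc j (hs j (by omega) _ (ih (by omega)))).2
  refine ⟨Q, fun j hj => (hG j hj).1, fun j hj => ?_, fun i => ((hG (h i) (hh i)).2 i).2 rfl⟩
  refine lt_of_le_of_ne (hQsucc j (hs j hj _ (hG j hj.le))).1 fun e => ?_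
  have := (hG (j + 1) hj).1
  rw [← e, (hG j hj.le).1] at this
  have := le_of_J_le (k := k) hj this.ge
  omega

end Groth.Agent.NNChain
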